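import Groth.Agent.BigCohLib.Vanish
import Groth.Agent.HResFunLib.Laws

/-!
# Cohomology of degree zero as sections, compatibly with restriction
-/

set_option autoImplicit false
set_option backward.isDefEq.respectTransparency false
set_option backward.isDefEq.respectTransparency.types false
set_option maxHeartbeats 1600000
universe u

open CategoryTheory CategoryTheory.Limits AlgebraicGeometry Opposite CategoryTheory.Abelian

noncomputable section

namespace HZeroLib

local notation "P" => Scheme.fppfPrecoverage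

variable {S T : Scheme.{u}}

/-- The base as an object over itself. -/
abbrev top0 (S : Scheme.{u}) : Over S := Over.mk (𝟙 S)

theorem homEquivBase_apply (M : BigSite.Ab P S)
    (x : (constantSheaf (QuotSh.J P S) AddCommGrpCat.{u + 1}).obj HResFunLib.Zc ⟶ M) :
    BigCohLib.homEquivBase M x =
      x.hom.app (op (top0 S)) ((HResFunLib.η P S).app (op (top0 S)) (ULift.up 1)) := by
  unfold BigCohLib.homEquivBase
  simp [constantSheafAdj, sheafificationAdjunction, Adjunction.comp, Adjunction.homEquiv_unit]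
  rfl

/-- Degree zero cohomology is the group of sections. -/
def h0Equiv (F : BigSite.Ab P S) : BigSite.H P S F 0 ≃+ F.obj.obj (op (top0 S)) :=
  Ext.addEquiv₀.trans (BigCohLib.homEquivBase F)

theorem h0Equiv_mk₀ (F : BigSite.Ab P S)
    (φ : (constantSheaf (QuotSh.J P S) AddCommGrpCat.{u + 1}).obj HResFunLib.Zc ⟶ F) :
    h0Equiv F (Ext.mk₀ φ) = BigCohLib.homEquivBase F φ :=
  congrArg (BigCohLib.homEquivBase F) (Ext.homEquiv₀.apply_symm_apply φ)

theorem h0Equiv_map {F G : BigSite.Ab P S} (φ : F ⟶ G) (x : BigSite.H P S F 0) :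
    h0Equiv G (Sheaf.H.map φ 0 x) = φ.hom.app (op (top0 S)) (h0Equiv F x) := by
  obtain ⟨α, rfl⟩ := (Ext.mk₀_bijective _ _).2 x
  rw [Sheaf.H.map_apply, Ext.mk₀_comp_mk₀, h0Equiv_mk₀, h0Equiv_mk₀, BigCohLib.homEquivBase_comp]

/-- The map from the base of the source to the base. -/
abbrev baseHom (f : T ⟶ S) : (Over.map f).obj (top0 T) ⟶ top0 S := Over.homMk f (by simp)

theorem h0Equiv_pull (f : T ⟶ S) (F : BigSite.Ab P S) (x : BigSite.H P S F 0) :
    h0Equiv ((BigSite.pullBig P f AddCommGrpCat.{u + 1}).obj F) (HRes.pull P f F 0 x) =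
      F.obj.map (baseHom f).op (h0Equiv F x) := by
  obtain ⟨α, rfl⟩ := (Ext.mk₀_bijective _ _).2 x
  rw [HRes.pull_apply, Ext.mapExactFunctor_mk₀, Ext.mk₀_comp_mk₀, h0Equiv_mk₀, h0Equiv_mk₀, homEquivBase_apply,
    homEquivBase_apply]
  show α.hom.app (op ((Over.map f).obj (top0 T))) ((HRes.pullConst P f HResFunLib.Zc).inv.hom.app (op (top0 T))
      ((HResFunLib.η P T).app (op (top0 T)) (ULift.up 1))) = _
  have h1 := congr($(HResFunLib.η_pullConst P f (op (top0 T))) (ULift.up 1))
  rw [ConcreteCategory.comp_apply] at h1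
  refine Eq.trans (congrArg (α.hom.app _) h1) ?_
  refine Eq.trans ?_ (NatTrans.naturality_apply α.hom (baseHom f).op _)
  refine congrArg (α.hom.app _) ?_
  exact NatTrans.naturality_apply (HResFunLib.η P S) (baseHom f).op (ULift.up 1)

/-- The base of an object as an object over the base. -/
abbrev baseIso (U : Over S) : (Over.map U.hom).obj (top0 U.left) ≅ U :=
  Over.isoMk (Iso.refl _) (by simp)

/-- Degree zero cohomology over an object is the group of sections over it. -/
def hu0 (F : BigSite.Ab P S) (U : Over S) : BigSite.HU P F 0 U ≃+ F.obj.obj (op U) :=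
  (h0Equiv _).trans (F.obj.mapIso (baseIso U).op).addCommGroupIsoToAddEquiv.symm

theorem hu0_apply (F : BigSite.Ab P S) (U : Over S) (x : BigSite.HU P F 0 U) :
    hu0 F U x = F.obj.map (baseIso U).inv.op (h0Equiv _ x) := rfl

/-- Restriction is the restriction of sections. -/
theorem hu0_resHU (F : BigSite.Ab P S) {U U' : Over S} (g : U' ⟶ U) (x : BigSite.HU P F 0 U) :
    hu0 F U' (HRes.resHU P F 0 g x) = F.obj.map g.op (hu0 F U x) := by
  rw [hu0_apply, hu0_apply]
  show F.obj.map (baseIso U').inv.op (h0Equiv _ (Sheaf.H.map (HRes.pullIso P F g).hom 0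
    (HRes.pull P g.left ((BigSite.pullBig P U.hom AddCommGrpCat.{u + 1}).obj F) 0 x))) = _
  rw [h0Equiv_map, h0Equiv_pull]
  simp only [HRes.pullIso, GrothendieckTopology.overMapPullbackCongr, Iso.trans_hom, Iso.app_hom]
  show F.obj.map (baseIso U').inv.op (F.obj.map _ (F.obj.map _ (F.obj.map _ _))) = _
  simp only [← ConcreteCategory.comp_apply, ← Functor.map_comp, ← op_comp]
  congr 3

end HZeroLib
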